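import Groth.Agent.TF7.Simple2.Generic

/-!
# A simple extension on the closed fibre
-/

set_option autoImplicit false
set_option linter.style.haveILetI false
set_option backward.isDefEq.respectTransparency.types false
set_option backward.isDefEq.respectTransparency false
set_option maxHeartbeats 2000000

universe u

open CategoryTheory CategoryTheory.Limits AlgebraicGeometry Opposite TopologicalSpace
open Groth.Agent.OmegaLib Groth.Agent.Coherent Groth.Agent.EulerLib

noncomputable section

namespace Groth.Agent.TF7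

theorem piece_mono {Z : Scheme.{u}} [IsReduced Z] {M N : Z.Modules} {w : Z} (hw : w ∈ genericPoints Z)
    (h : ∀ S, Indic N S → Indic M (S ∩ piece M w)) : piece M w ⊆ piece N w := by
  refine Set.sUnion_subset fun C hC x hx => Set.mem_sUnion.2 ⟨C, ⟨hC.1, fun η hη he S hS hwS => ?_⟩, hx⟩
  exact (hC.2 η hη he _ (h S hS) ⟨hwS, self_mem_piece hw⟩).1

variable {R : Type u} [CommRing R] [IsDomain R] [IsDiscreteValuationRing R] {X : Scheme.{u}}
  {f : X ⟶ Spec (CommRingCat.of R)} [Flat f] [IsProper f] {Xs : Scheme.{u}}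
  [Xs.Over (Spec (CommRingCat.of (IsLocalRing.ResidueField R)))] {i : Xs ⟶ X} [IsReduced Xs]
  {Xg : Scheme.{u}} [Xg.Over (Spec (CommRingCat.of (FractionRing R)))] {j : Xg ⟶ X}

local notation "κ" => IsLocalRing.ResidueField R
local notation "qs" => Xs ↘ Spec (CommRingCat.of (IsLocalRing.ResidueField R))
local notation "qg" => Xg ↘ Spec (CommRingCat.of (FractionRing R))
local notation "Pi" => Scheme.Modules.pullback i
local notation "Pj" => Scheme.Modules.pullback j

omit [Flat f] [IsReduced Xs] in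
theorem nonempty_special (hsq : IsPullback i qs f (Spec.map (CommRingCat.ofHom (IsLocalRing.residue R))))
    (hgen : IsPullback j qg f (Spec.map (CommRingCat.ofHom (algebraMap R (FractionRing R)))))
    {M : Xg.Modules} (hIg : TFOne.FibSimple qg M) : Nonempty Xs := by
  by_contra h
  haveI := not_nonempty_iff.1 h
  haveI : CompactSpace X := QuasiCompact.compactSpace_of_compactSpace f
  haveI : IsEmpty X := by
    refine ⟨fun x => ?_⟩
    obtain ⟨z, -, hzc⟩ := (isClosed_univ (X := X)).exists_closed_singleton ⟨x, trivial⟩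
    obtain ⟨y, -⟩ := mem_range_of_closed f i hsq hzc
    exact (IsEmpty.false y).elim
  let Ω := AlgebraicClosure (FractionRing R)
  let t := Spec.map (CommRingCat.ofHom (algebraMap (FractionRing R) Ω))
  haveI : IsEmpty ↥(pullback qg t) := Function.isEmpty fun y => j (pullback.fst qg t y)
  exact (hIg Ω t (pullback qg t) (pullback.fst _ _) (pullback.snd _ _) (IsPullback.of_hasPullback _ _)).1
    (isZero_of_isEmpty _)

/-- **Simple extension on the closed fibre**, inside any class stable under decomposed modifications. -/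
theorem exists_simple_special
    (hsq : IsPullback i qs f (Spec.map (CommRingCat.ofHom (IsLocalRing.residue R))))
    (hgi : ∀ (C : Set Xs) (hC : C ∈ irreducibleComponents (Xs : Type u)), GeometricallyIntegral
      (VecSt.subschι Xs C (isClosed_of_mem_irreducibleComponents C hC) ≫ qs))
    (hgen : IsPullback j qg f (Spec.map (CommRingCat.ofHom (algebraMap R (FractionRing R)))))
    {I : X.Modules} {d : ℤ} (hIg : TFOne.FibSimple qg ((Pj).obj I))
    (P : X.Modules → Prop) (hP : ∀ J, P J → Good f i j I d J)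
    (hstep : ∀ J, P J → ∀ (T : Set Xs), IsClosed T → VecSt.IsSubcurve Xs T → VecSt.IsSubcurve Xs (away T) →
      Indic ((Pi).obj J) T → ∀ G π, TFOne.IsQuotOn Xs ((Pi).obj J) T G π →
      P (kernel ((Scheme.Modules.pullbackPushforwardAdjunction i).unit.app J ≫
        (Scheme.Modules.pushforward i).map π)))
    {J₀ : X.Modules} (hJ₀ : P J₀) : ∃ J, P J ∧ TFOne.IsSimple Xs κ qs ((Pi).obj J) := by
  haveI : IsProper qs := MorphismProperty.of_isPullback hsq inferInstance
  haveI := isNoetherian_of_proper (X := Xs) κ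
  haveI := nonempty_special hsq hgen hIg
  obtain ⟨w, hw, -⟩ := exists_genericPoint_specializes (Classical.arbitrary Xs)
  have hfin : {A : Set Xs | ∃ J, P J ∧ piece ((Pi).obj J) w = A}.Finite := by
    refine (NoetherianSpace.finite_irreducibleComponents (α := Xs)).powerset.image
      (fun A : Set (Set Xs) => Set.sUnion A) |>.subset ?_
    rintro _ ⟨J, -, rfl⟩
    exact ⟨_, fun C hC => hC.1, rfl⟩
  obtain ⟨Y, ⟨J₁, hJ₁, rfl⟩, hmax⟩ := hfin.exists_maximal ⟨_, J₀, hJ₀, rfl⟩
  let Y := piece ((Pi).obj J₁) w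
  by_cases hall : ∀ η ∈ genericPoints (Xs : Type u), η ∈ Y
  · exact ⟨J₁, hJ₁, isSimple_of_indic κ (hP _ hJ₁).tf hw (exists_scalars κ (hP _ hJ₁).tf hgi)
      fun S hS hwS η hη => (mem_piece hη).1 (hall η hη) S hS hwS⟩
  exfalso
  push Not at hall
  obtain ⟨η₁, hη₁, hη₁Y⟩ := hall
  have hYc : IsClosed Y := (exists_quot_components κ (hP _ hJ₁).tf _).1
  have hY' : ∀ η ∈ genericPoints (Xs : Type u), η ∈ away Y ↔ η ∉ Y := fun η hη => mem_away hYc hη
  have hYs : VecSt.IsSubcurve Xs Y := isSubcurve_components ⟨w, hw, self_mem_piece hw⟩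
  have hY's : VecSt.IsSubcurve Xs (away Y) := isSubcurve_components ⟨η₁, hη₁, (hY' η₁ hη₁).2 hη₁Y⟩
  have hY'c : IsClosed (away Y) := (exists_quot_components κ (hP _ hJ₁).tf _).1
  let Q : X.Modules → Prop := fun J => P J ∧ piece ((Pi).obj J) w = Y
  have hQi : ∀ J, Q J → Indic ((Pi).obj J) Y := fun J hJ => hJ.2 ▸ indic_piece _
  have hQstep : ∀ J, Q J → ∀ T, (T = Y ∨ T = away Y) → ∀ G π, TFOne.IsQuotOn Xs ((Pi).obj J) T G π →
      Q (kernel ((Scheme.Modules.pullbackPushforwardAdjunction i).unit.app J ≫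
        (Scheme.Modules.pushforward i).map π)) := by
    intro J hJ T hT G π hG
    haveI := hG.1
    obtain ⟨hc, S, hS⟩ := setup_flat f i hsq J (hP _ hJ.1).coh (hP _ hJ.1).flat π hG.2.1 (IY :=
      kernel ((Scheme.Modules.pullbackPushforwardAdjunction i).unit.app J ≫
        (Scheme.Modules.pushforward i).map π)) rfl
    have htf := (hP _ hJ.1).tf
    have hsub : Y ⊆ piece ((Pi).obj (kernel ((Scheme.Modules.pullbackPushforwardAdjunction i).unit.app J ≫
        (Scheme.Modules.pushforward i).map π))) w := by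
      rw [← hJ.2]
      refine piece_mono hw fun S' hS' => ?_
      rw [hJ.2]
      rcases hT with rfl | rfl
      · exact S.indic_meet htf hS hG (hQi J hJ) hS'
      · exact S.indic_meet' htf hG hY' (hQi J hJ) hS'
    have hPn : P (kernel ((Scheme.Modules.pullbackPushforwardAdjunction i).unit.app J ≫
        (Scheme.Modules.pushforward i).map π)) := by
      rcases hT with rfl | rfl
      · exact hstep J hJ.1 Y hYc hYs hY's (hQi J hJ) G π hG
      · refine hstep J hJ.1 (away Y) hY'c hY's (isSubcurve_components ⟨w, hw, ?_⟩)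
          ((hQi J hJ).away hYc) G π hG
        exact (mem_away hY'c hw).2 fun h => (hY' w hw).1 h (self_mem_piece hw)
    exact ⟨hPn, (hmax ⟨_, hPn, rfl⟩ hsub).antisymm hsub⟩
  obtain ⟨Ω, _, _, φ, Yg, g, qY, hφ, hYg, hns⟩ := exists_generic_not_simple f i hsq Q Y (away Y) hY'
    ⟨w, self_mem_piece hw⟩ ⟨η₁, (hY' η₁ hη₁).2 hη₁Y⟩
    (fun J hJ => ⟨(hP _ hJ.1).coh, (hP _ hJ.1).flat, (hP _ hJ.1).tf, hQi J hJ,
      (exists_quot_components κ (hP _ hJ.1).tf _).2, (exists_quot_components κ (hP _ hJ.1).tf _).2⟩)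
    hQstep (J := J₁) ⟨hJ₁, rfl⟩
  obtain ⟨l, hl, hlsq⟩ := exists_lift_generic f hgen φ hφ hYg
  obtain ⟨e⟩ := (hP _ hJ₁).gen
  exact hns (isSimple_congr Ω ((Scheme.Modules.pullback l).mapIso e.symm ≪≫ pullFactor hl J₁)
    (hIg Ω _ Yg l qY hlsq))

end Groth.Agent.TF7
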