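import Groth.Agent.TF7.Simple2.Main
import Groth.Agent.TF7.Quasi.Iterate

/-!
# Decompositions of semistable modules
-/

set_option autoImplicit false
set_option linter.style.haveILetI false
set_option backward.isDefEq.respectTransparency.types false
set_option backward.isDefEq.respectTransparency false

universe u

open CategoryTheory CategoryTheory.Limits AlgebraicGeometry Opposite TopologicalSpace
open Groth.Agent.OmegaLib Groth.Agent.Coherent Groth.Agent.EulerLib Groth.Agent.VarietyLib

noncomputable section

namespace Groth.Agent.TF7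

variable {X : Scheme.{u}} [IsReduced X] (k : Type u) [Field k] [X.Over (Spec (CommRingCat.of k))]
  [IsProper (X ↘ Spec (CommRingCat.of k))]

/-- The pieces of a decomposition of a semistable module have vanishing `β`. -/
theorem rBeta_eq_zero_of_indic (hdim : topologicalKrullDim X ≤ 1)
    {r : ℕ} {E : X.Modules} (hE : FlatMod.IsFinLocFreeOfRank r E) {M : X.Modules}
    (hM : TFOne.IsSemistable X k (X ↘ Spec (CommRingCat.of k)) M E r)
    (h0 : (r : ℤ) * Curv2.euler k X M + Curv2.deg k X E r = 0)
    {T : Set X} (hT : IsClosed T) (hTs : VecSt.IsSubcurve X T) (hT's : VecSt.IsSubcurve X (away T))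
    (he : Indic M T) {G : X.Modules} {π : M ⟶ G} (hG : TFOne.IsQuotOn X M T G π) :
    TFOne.rBeta X k (X ↘ Spec (CommRingCat.of k)) T hT E r G = 0 := by
  haveI := isNoetherian_of_proper (X := X) k
  haveI := isSeparated_of_proper (X := X) k
  obtain ⟨hT', G', π', hG'⟩ := exists_quot_components k hM.1 fun C => ¬ C ⊆ T
  haveI := isIso_lift_of_indic hM.1 he (fun η hη => mem_away hT hη) hG hG'
  have hL := leOne_of_isRkOne hM.1.2.2
  have h1 := rBeta_nonneg k hE hM h0 hT hTs hG
  have h2 := rBeta_nonneg k hE hM h0 hT' hT's hG'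
  rw [rBeta_eq_euler_tensor k hdim hE hL hT hG] at h1 ⊢
  rw [rBeta_eq_euler_tensor k hdim hE hL hT' hG'] at h2
  have h3 := euler_tensor_eq_zero k hdim hE hM.1 h0
  have h4 := euler_congr k X (AmpleLib.tensorIso (asIso (biprod.lift π π')) (Iso.refl E))
  let S : ShortComplex X.Modules := ShortComplex.mk (biprod.inl : G ⟶ G ⊞ G') biprod.snd biprod.inl_snd
  have hS : S.ShortExact := (ShortComplex.Splitting.ofHasBinaryBiproduct G G').shortExact
  have hGG : Coh.IsCoh (G ⊞ G') := Coherent.Existence.isCoh_biprod hG.2.1 hG'.2.1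
  have hadd := degFun_add k hE S hS hG.2.1 hGG hG'.2.1
  change degFun k r E (G ⊞ G') = degFun k r E G + degFun k r E G' at hadd
  have hχ := euler_biprod k hG.2.1 hG'.2.1
  have e : ∀ N : X.Modules, Curv2.euler k X (CohB1.tensorMod N E) = degFun k r E N + r * Curv2.euler k X N :=
    fun N => by rw [degFun]; ring
  have h5 : Curv2.euler k X (CohB1.tensorMod (G ⊞ G') E) =
      Curv2.euler k X (CohB1.tensorMod G E) + Curv2.euler k X (CohB1.tensorMod G' E) := by
    rw [e, e, e, hadd, hχ]; ring
  linarith

end Groth.Agent.TF7
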