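import Groth.Agent.TF7.Simple2.Indic
import Groth.Agent.TF7.Fibre.Basic

/-!
# Simplicity on geometric fibres
-/

set_option autoImplicit false
set_option linter.style.haveILetI false
set_option linter.unusedSectionVars false
set_option backward.isDefEq.respectTransparency.types false
set_option backward.isDefEq.respectTransparency false
set_option maxHeartbeats 1000000

universe u

open CategoryTheory CategoryTheory.Limits AlgebraicGeometry Opposite TopologicalSpace
open Groth.Agent.OmegaLib Groth.Agent.Coherent Groth.Agent.EulerLib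

noncomputable section

namespace Groth.Agent.TF7

theorem isZero_of_isEmpty {X : Scheme.{u}} [IsEmpty X] (M : X.Modules) : IsZero M :=
  (IsZero.iff_id_eq_zero _).2 (VarietyLib.eq_zero_of_stalks _ fun x _ => (IsEmpty.false x).elim)

theorem pullback_stalk_zero {Y Z : Scheme.{u}} (g : Y ⟶ Z) (M : Z.Modules) (y : Y)
    (h : ∀ m : (DerSch.stalkFunctor Z (g y)).obj M, m = 0)
    (v : (DerSch.stalkFunctor Y y).obj ((Scheme.Modules.pullback g).obj M)) : v = 0 := by
  induction v using pbs_induction g M y with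
  | h0 => rfl
  | hs b m => rw [h m, map_zero, smul_zero]
  | ha u v hu hv => rw [hu, hv, add_zero]

/-- A splitting into quotients gives an indicator. -/
theorem indic_of_isIso_lift {X : Scheme.{u}} [IsReduced X] {M G1 G2 : X.Modules} {T : Set X}
    {π1 : M ⟶ G1} {π2 : M ⟶ G2} (hM : LEOne M) (h1 : TFOne.IsQuotOn X M T G1 π1)
    [IsIso (biprod.lift π1 π2)] : Indic M T := by
  haveI := h1.1
  refine ⟨π1 ≫ biprod.inl ≫ inv (biprod.lift π1 π2), fun η hη m => ⟨fun hT => ?_, fun hT => ?_⟩⟩
  · have h : inv (biprod.lift π1 π2) ≫ π1 = biprod.fst := (IsIso.inv_comp_eq _).2 (biprod.lift_fst _ _).symm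
    refine sub_eq_zero.1 (quot_injective_generic hM h1 hη hT ?_)
    rw [map_sub, sub_eq_zero, ← map_comp_apply]
    simp only [Category.assoc, h, biprod.inl_fst, Category.comp_id]
  · rw [map_comp_apply, stalk_zero_of_notMem h1 hT ((DerSch.stalkFunctor X η).map π1 m), map_zero]

variable {k Ω : Type u} [Field k] [Field Ω] [IsAlgClosed Ω] {Z Y : Scheme.{u}} [IsReduced Z] [IsReduced Y]
  [Z.Over (Spec (CommRingCat.of k))] [IsProper (Z ↘ Spec (CommRingCat.of k))]
  {qY : Y ⟶ Spec (CommRingCat.of Ω)} {g : Y ⟶ Z} {φ : k →+* Ω}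

local notation "Pg" => Scheme.Modules.pullback g
local notation "Sy" => DerSch.stalkFunctor Y
local notation "Sz" => DerSch.stalkFunctor Z

/-- Simplicity ascends along extensions of the base field. -/
theorem isSimple_pullback (hY : IsPullback g qY (Z ↘ Spec (CommRingCat.of k)) (Spec.map (CommRingCat.ofHom φ)))
    (hgi : ∀ (C : Set Z) (hC : C ∈ irreducibleComponents (Z : Type u)), GeometricallyIntegral
      (VecSt.subschι Z C (isClosed_of_mem_irreducibleComponents C hC) ≫ (Z ↘ Spec (CommRingCat.of k))))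
    {M : Z.Modules} (hM : TFOne.IsTF1 Z M) (hs : TFOne.IsSimple Z k (Z ↘ Spec (CommRingCat.of k)) M) :
    TFOne.IsSimple Y Ω qY ((Pg).obj M) := by
  obtain ⟨hfl, hsur⟩ := flat_of_field_extension hY
  haveI := hfl
  haveI := hsur
  haveI := isNoetherian_of_proper (X := Z) k
  letI : Y.Over (Spec (CommRingCat.of Ω)) := ⟨qY⟩
  haveI : IsProper (Y ↘ Spec (CommRingCat.of Ω)) := MorphismProperty.of_isPullback (P := @IsProper) hY inferInstance
  haveI := isNoetherian_of_proper (X := Y) Ω
  have hM' := isTF1_pullback_field hY hM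
  haveI : Nonempty Z := by
    by_contra h
    haveI := not_nonempty_iff.1 h
    exact hs.1 (isZero_of_isEmpty M)
  obtain ⟨η₀, hη₀, -⟩ := exists_genericPoint_specializes (Classical.arbitrary Z)
  obtain ⟨w, hw, -⟩ := exists_generic_over (g := g) hη₀
  refine isSimple_of_indic Ω hM' hw (exists_scalars_algClosed Ω hM') fun S hS hwS => ?_
  obtain ⟨e, he⟩ := hS
  let P : Set Z → Prop := fun C => ∃ η' ∈ genericPoints Y, η' ∈ S ∧ C = closure {g η'}
  let T := ⋃₀ {C | C ∈ irreducibleComponents (Z : Type u) ∧ P C}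
  obtain ⟨hTc, G1, π1, h1⟩ := exists_quot_components k hM P
  obtain ⟨-, G2, π2, h2⟩ := exists_quot_components k hM fun C => ¬ C ⊆ T
  have hmem : ∀ η' ∈ genericPoints Y, g η' ∈ T ↔ η' ∈ S := fun η' hη' => by
    rw [mem_sUnion_components (image_generic hη')]
    refine ⟨fun ⟨η'', hη'', hS'', h⟩ => ?_, fun h => ⟨η', hη', h, rfl⟩⟩
    have := congrArg (fun A => g ⁻¹' A) h
    rw [preimage_component hY hgi hη', preimage_component hY hgi hη'', closure_eq_iff hη''] at this
    exact this ▸ hS''
  have hT' : ∀ η ∈ genericPoints Z, η ∈ away T ↔ η ∉ T := fun η hη => mem_away hTc hη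
  haveI := h1.1; haveI := h2.1
  have hq1 := isTorsionFree_pullback g h1.2.1 h1.2.2.1
  have hq2 := isTorsionFree_pullback g h2.2.1 h2.2.2.1
  have hc1 := CycLib28.InterSheaf.isCoh_pullback g h1.2.1
  have hc2 := CycLib28.InterSheaf.isCoh_pullback g h2.2.1
  have k1 : ∀ (y : Y) (v : (Sy y).obj ((Pg).obj M)),
      (Sy y).map ((Pg).map π1) ((Sy y).map e v) = (Sy y).map ((Pg).map π1) v := fun y v => by
    refine sub_eq_zero.1 ((map_sub _ _ _).symm.trans (eq_zero_of_generic hc1.1 hq1 _ fun η hη hs' => ?_))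
    rw [show (Sy y).map e v - v = (Sy y).map (e - 𝟙 _) v by rw [sub_apply, id_apply], spec_map, spec_map]
    by_cases hηS : η ∈ S
    · rw [sub_apply, id_apply, (he η hη _).1 hηS, sub_self, map_zero]
    · exact pullback_stalk_zero g G1 η (fun m => stalk_zero_of_notMem h1 (fun h => hηS ((hmem η hη).1 h)) m) _
  have k2 : ∀ (y : Y) (v : (Sy y).obj ((Pg).obj M)), (Sy y).map ((Pg).map π2) ((Sy y).map e v) = 0 := fun y v => by
    refine eq_zero_of_generic hc2.1 hq2 _ fun η hη hs' => ?_
    rw [spec_map, spec_map]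
    by_cases hηS : η ∈ S
    · exact pullback_stalk_zero g G2 η (fun m => stalk_zero_of_notMem h2
        (fun h => (hT' _ (image_generic hη)).1 h ((hmem η hη).2 hηS)) m) _
    · rw [(he η hη _).2 hηS, map_zero]
  let L := biprod.lift π1 π2
  let c := cokernel.π L
  have hdec : L = π1 ≫ biprod.inl + π2 ≫ biprod.inr := by apply biprod.hom_ext <;> simp [L]
  have hsum : π1 ≫ biprod.inl ≫ c + π2 ≫ biprod.inr ≫ c = 0 := by
    rw [← Category.assoc, ← Category.assoc, ← Preadditive.add_comp]
    exact (congrArg (· ≫ c) hdec.symm).trans (cokernel.condition L)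
  have hsplit : ∀ {A B : Z.Modules} (a : A ⟶ B) {C : Z.Modules} (b : B ⟶ C) (y : Y) (v : (Sy y).obj ((Pg).obj A)),
      (Sy y).map ((Pg).map (a ≫ b)) v = (Sy y).map ((Pg).map b) ((Sy y).map ((Pg).map a) v) := fun a _ b y v => by
    rw [Functor.map_comp, map_comp_apply]
  have hLc : ∀ (y : Y) (v : (Sy y).obj ((Pg).obj M)),
      (Sy y).map ((Pg).map (biprod.inl ≫ c)) ((Sy y).map ((Pg).map π1) v) +
        (Sy y).map ((Pg).map (biprod.inr ≫ c)) ((Sy y).map ((Pg).map π2) v) = 0 := fun y v => by
    rw [← hsplit, ← hsplit]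
    have h : (Sy y).map ((Pg).map (π1 ≫ biprod.inl ≫ c + π2 ≫ biprod.inr ≫ c)) v = 0 := by
      rw [hsum, Functor.map_zero, map_zero_apply]
    rw [Functor.map_add, Functor.map_add] at h
    exact h
  have hinl : biprod.inl ≫ c = 0 := by
    refine (cancel_epi π1).1 ((VarietyLib.eq_zero_of_stalks _ fun z m => ?_).trans comp_zero.symm)
    obtain ⟨y, rfl⟩ := g.surjective z
    refine pbs_injective_of_flat g _ y ?_
    rw [map_zero, ← pbs_map, hsplit, ← k1]
    have h := hLc y ((Sy y).map e (pbs g M y m))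
    rwa [k2, map_zero, add_zero] at h
  have hinr : biprod.inr ≫ c = 0 := by
    refine (cancel_epi π2).1 ((VarietyLib.eq_zero_of_stalks _ fun z m => ?_).trans comp_zero.symm)
    obtain ⟨y, rfl⟩ := g.surjective z
    refine pbs_injective_of_flat g _ y ?_
    rw [map_zero, ← pbs_map, hsplit]
    have h := hLc y (pbs g M y m - (Sy y).map e (pbs g M y m))
    rwa [map_sub, map_sub, k1, sub_self, zero_add, map_sub, map_sub, k2, map_zero, sub_zero] at h
  haveI : Epi L := Preadditive.epi_of_cokernel_zero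
    (show c = 0 from biprod.hom_ext' _ _ (hinl.trans comp_zero.symm) (hinr.trans comp_zero.symm))
  have hL := leOne_of_isRkOne hM.2.2
  haveI : Mono L := mono_of_stalks_injective _ fun z => (injective_iff_map_eq_zero _).2 fun m hm => by
    refine eq_zero_of_generic hM.1.1 hM.2.1 m fun η hη hs' => ?_
    by_cases hηT : η ∈ T
    · exact (map_eq_zero_iff hL h1 m).1 (by rw [← biprod.lift_fst π1 π2, map_comp_apply, hm, map_zero]) η hη hηT hs'
    · exact (map_eq_zero_iff hL h2 m).1 (by rw [← biprod.lift_snd π1 π2, map_comp_apply, hm, map_zero]) η hη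
        ((hT' η hη).2 hηT) hs'
  haveI : IsIso (biprod.lift π1 π2) := isIso_of_mono_of_epi L
  exact fun η' hη' => (hmem η' hη').1 (trivial_of_isSimple k hM hs (indic_of_isIso_lift (π2 := π2) hL h1)
    (image_generic hw) (image_generic hη') ((hmem w hw).2 hwS))

variable {R : Type u} [CommRing R] [IsDomain R] [IsDiscreteValuationRing R] {X : Scheme.{u}}
  {f : X ⟶ Spec (CommRingCat.of R)} [Flat f] [IsProper f] {Xs : Scheme.{u}}
  [Xs.Over (Spec (CommRingCat.of (IsLocalRing.ResidueField R)))] {i : Xs ⟶ X} [IsReduced Xs]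
  {Xg : Scheme.{u}} [Xg.Over (Spec (CommRingCat.of (FractionRing R)))] {j : Xg ⟶ X}

local notation "κ" => IsLocalRing.ResidueField R
local notation "qs" => Xs ↘ Spec (CommRingCat.of (IsLocalRing.ResidueField R))
local notation "qg" => Xg ↘ Spec (CommRingCat.of (FractionRing R))

/-- Fibrewise simplicity of an extension simple on the closed fibre. -/
theorem fibSimple_of_good (hsq : IsPullback i qs f (Spec.map (CommRingCat.ofHom (IsLocalRing.residue R))))
    (hpure : ∀ C ∈ irreducibleComponents (Xs : Type u), topologicalKrullDim C = 1)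
    (hgi : ∀ (C : Set Xs) (hC : C ∈ irreducibleComponents (Xs : Type u)), GeometricallyIntegral
      (VecSt.subschι Xs C (isClosed_of_mem_irreducibleComponents C hC) ≫ qs))
    (hgen : IsPullback j qg f (Spec.map (CommRingCat.ofHom (algebraMap R (FractionRing R)))))
    {I J : X.Modules} {d : ℤ} (hJ : Good f i j I d J)
    (hs : TFOne.IsSimple Xs κ qs ((Scheme.Modules.pullback i).obj J))
    (hIg : TFOne.FibSimple qg ((Scheme.Modules.pullback j).obj I)) : TFOne.FibSimple f J := by
  intro Ω _ _ t Y g qY hY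
  haveI : IsProper qs := MorphismProperty.of_isPullback hsq inferInstance
  obtain ⟨hred, -, hprop⟩ := generic_fibre_props f hsq hpure hgi hY
  haveI := hred
  letI : Y.Over (Spec (CommRingCat.of Ω)) := ⟨qY⟩
  haveI : IsProper (Y ↘ Spec (CommRingCat.of Ω)) := hprop
  rcases fibre_cases hsq hgen hY with ⟨ψ, l, hl, hlsq⟩ | ⟨ψ, l, hl, hlsq⟩
  · exact isSimple_congr Ω (pullFactor hl J) (isSimple_pullback hlsq hgi hJ.tf hs)
  · obtain ⟨e⟩ := hJ.gen
    exact isSimple_congr Ω ((Scheme.Modules.pullback l).mapIso e.symm ≪≫ pullFactor hl J)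
      (hIg Ω _ Y l qY hlsq)

end Groth.Agent.TF7
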