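import Groth.Agent.TF7.Simple2.Ascent
import Groth.Agent.Coherent.Existence.TwoStep

/-!
# Two decomposed towers split the geometric generic fibre
-/

set_option autoImplicit false
set_option linter.style.haveILetI false
set_option linter.unusedSectionVars false
set_option backward.isDefEq.respectTransparency.types false
set_option backward.isDefEq.respectTransparency false
set_option maxHeartbeats 2000000

universe u

open CategoryTheory CategoryTheory.Limits AlgebraicGeometry Opposite TopologicalSpace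
open Groth.Agent.OmegaLib Groth.Agent.Coherent

noncomputable section

namespace Groth.Agent.TF7

section Special

variable {X Z : Scheme.{u}} (i : Z ⟶ X) [IsClosedImmersion i] [IsLocallyNoetherian X] [CompactSpace X] {t : Γ(X, ⊤)}

local notation "Sx" => DerSch.stalkFunctor X
local notation "Sz" => DerSch.stalkFunctor Z
local notation "P" => Scheme.Modules.pullback i

/-- A splitting on the closed fibre lifts. -/
theorem isIso_lift_of_special
    (hker : ∀ y, RingHom.ker (i.stalkMap y).hom = Ideal.span {X.presheaf.germ ⊤ (i y) trivial t})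
    (hcl : ∀ x : X, IsClosed ({x} : Set X) → x ∈ Set.range i)
    {M F F' : X.Modules} (hM : Coh.IsCoh M) (hF : Coh.IsCoh F) (hF' : Coh.IsCoh F') (a : M ⟶ F) (a' : M ⟶ F')
    (hreg : ∀ (x : X) (v : (Sx x).obj F), X.presheaf.germ ⊤ x trivial t • v = 0 → v = 0)
    (hreg' : ∀ (x : X) (v : (Sx x).obj F'), X.presheaf.germ ⊤ x trivial t • v = 0 → v = 0)
    [IsIso (biprod.lift ((P).map a) ((P).map a'))] : IsIso (biprod.lift a a') := by
  let L := biprod.lift a a'
  have hFF := Coherent.Existence.isCoh_biprod hF hF'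
  have hfst : ∀ (x : X) (m : (Sx x).obj M), (Sx x).map biprod.fst ((Sx x).map L m) = (Sx x).map a m := fun x m => by
    rw [← map_comp_apply, biprod.lift_fst]
  have hsnd : ∀ (x : X) (m : (Sx x).obj M), (Sx x).map biprod.snd ((Sx x).map L m) = (Sx x).map a' m := fun x m => by
    rw [← map_comp_apply, biprod.lift_snd]
  have hregL : ∀ (x : X) (v : (Sx x).obj (F ⊞ F')), X.presheaf.germ ⊤ x trivial t • v = 0 → v = 0 := fun x v hv =>
    biprod_ext _ (hreg x _ (by rw [← map_smul, hv, map_zero])) (hreg' x _ (by rw [← map_smul, hv, map_zero]))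
  have hinj : ∀ (y : Z) (v : (Sz y).obj ((P).obj M)), (Sz y).map ((P).map L) v = 0 → v = 0 := fun y v hv => by
    apply stalk_injective (biprod.lift ((P).map a) ((P).map a')) y
    rw [map_zero]
    refine biprod_ext _ ?_ ?_
    · rw [← map_comp_apply, biprod.lift_fst, ← biprod.lift_fst a a', Functor.map_comp, map_comp_apply]
      exact (congrArg _ hv).trans (map_zero _)
    · rw [← map_comp_apply, biprod.lift_snd, ← biprod.lift_snd a a', Functor.map_comp, map_comp_apply]
      exact (congrArg _ hv).trans (map_zero _)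
  haveI : Mono L := by
    have hK := isCoh_kernel L hM hFF.1
    refine mono_of_stalks_injective _ fun x => (injective_iff_map_eq_zero _).2 fun m hm => ?_
    obtain ⟨k, rfl⟩ := exists_kernel_lift L m hm
    rw [stalk_eq_zero_of_closedPoints hK (fun z hz k' => ?_) x k, map_zero]
    obtain ⟨y, rfl⟩ := hcl z hz
    exact stalk_injective (kernel.ι L) _ ((quotient_injective_at i hker hM L hregL y (hinj y) _
      (by rw [← map_comp_apply, kernel.condition, map_zero_apply])).trans (map_zero _).symm)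
  haveI : Epi L := by
    have hC := isCoh_cokernel L hM.1 hFF
    refine epi_of_stalks_surjective L fun x v => exists_coker_preimage L v
      (stalk_eq_zero_of_closedPoints hC (fun z hz w => ?_) x _)
    obtain ⟨y, rfl⟩ := hcl z hz
    obtain ⟨b, rfl⟩ := stalk_surjective (cokernel.π L) (i y) w
    haveI : Module.Finite (X.presheaf.stalk (i y)) ((Sx (i y)).obj (F ⊞ F')) := by
      haveI := hFF.1
      exact Props12.finite_stalk_of_isFT _ hFF.2 _
    have hmax : X.presheaf.germ ⊤ (i y) trivial t ∈ IsLocalRing.maximalIdeal (X.presheaf.stalk (i y)) :=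
      IsLocalRing.mem_maximalIdeal _ |>.2 fun hu => by
        have h1 : (i.stalkMap y).hom (X.presheaf.germ ⊤ (i y) trivial t) = 0 :=
          RingHom.mem_ker.1 ((hker y).ge (Ideal.mem_span_singleton_self _))
        exact (hu.map (i.stalkMap y).hom).ne_zero h1
    have hs : Function.Surjective ((Sx (i y)).map L) := stalk_range_eq_top_of_le L _ hmax fun b => by
      obtain ⟨v, hv⟩ := stalk_surjective (biprod.lift ((P).map a) ((P).map a')) y
        ((Sz y).map biprod.inl (pbs i F y ((Sx (i y)).map biprod.fst b)) +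
          (Sz y).map biprod.inr (pbs i F' y ((Sx (i y)).map biprod.snd b)))
      obtain ⟨m, rfl⟩ := pbs_surjective i M y v
      have h1 : pbs i F y ((Sx (i y)).map biprod.fst b - (Sx (i y)).map a m) = 0 := by
        rw [map_sub, ← pbs_map (φ := a), ← biprod.lift_fst ((P).map a) ((P).map a'), map_comp_apply, hv, map_add,
          ← map_comp_apply, ← map_comp_apply, biprod.inl_fst, biprod.inr_fst, map_zero_apply, id_apply, add_zero,
          sub_self]
      have h2 : pbs i F' y ((Sx (i y)).map biprod.snd b - (Sx (i y)).map a' m) = 0 := by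
        rw [map_sub, ← pbs_map (φ := a'), ← biprod.lift_snd ((P).map a) ((P).map a'), map_comp_apply, hv, map_add,
          ← map_comp_apply, ← map_comp_apply, biprod.inl_snd, biprod.inr_snd, map_zero_apply, id_apply, zero_add,
          sub_self]
      obtain ⟨b1, hb1⟩ := (pbs_eq_zero_iff i hker F y _).1 h1
      obtain ⟨b2, hb2⟩ := (pbs_eq_zero_iff i hker F' y _).1 h2
      refine ⟨m, (Sx (i y)).map biprod.inl b1 + (Sx (i y)).map biprod.inr b2, sub_eq_zero.1 (biprod_ext _ ?_ ?_)⟩
      · rw [map_sub, map_add, map_smul, hfst, map_add, ← map_comp_apply, ← map_comp_apply, biprod.inl_fst,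
          biprod.inr_fst, map_zero_apply, id_apply, add_zero, ← hb1]
        abel
      · rw [map_sub, map_add, map_smul, hsnd, map_add, ← map_comp_apply, ← map_comp_apply, biprod.inl_snd,
          biprod.inr_snd, map_zero_apply, id_apply, zero_add, ← hb2]
        abel
    obtain ⟨m, rfl⟩ := hs b
    rw [← map_comp_apply, cokernel.condition, map_zero_apply]
  exact isIso_of_mono_of_epi L

end Special

variable {R : Type u} [CommRing R] [IsDomain R] [IsDiscreteValuationRing R] {X : Scheme.{u}}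
  (f : X ⟶ Spec (CommRingCat.of R)) [IsProper f] {Xs : Scheme.{u}}
  [Xs.Over (Spec (CommRingCat.of (IsLocalRing.ResidueField R)))] [IsReduced Xs]

local notation "qs" => Xs ↘ Spec (CommRingCat.of (IsLocalRing.ResidueField R))

/-- A class of modules stable under modification along `T` gives a flat quotient over the completion. -/
theorem exists_quotient_of_invariant {R' : Type u} [CommRing R'] [IsDomain R'] [IsDiscreteValuationRing R']
    [IsAdicComplete (IsLocalRing.maximalIdeal R') R'] {X' : Scheme.{u}} (f' : X' ⟶ Spec (CommRingCat.of R'))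
    [IsProper f'] (p : X' ⟶ X) [Flat p] (i' : Xs ⟶ X') {q' : Xs ⟶ Spec (CommRingCat.of (IsLocalRing.ResidueField R'))}
    (hsq : IsPullback (i' ≫ p) qs f (Spec.map (CommRingCat.ofHom (IsLocalRing.residue R))))
    (hsq' : IsPullback i' q' f' (Spec.map (CommRingCat.ofHom (IsLocalRing.residue R'))))
    {ϖ : R} {ϖ' : R'} (hϖ : Irreducible ϖ) (hϖ' : Irreducible ϖ')
    (ht : p.appTop (Coh.toGlobal f ϖ) = Coh.toGlobal f' ϖ')
    (Q : X.Modules → Prop) (T T' : Set Xs) (hT' : ∀ η ∈ genericPoints (Xs : Type u), η ∈ T' ↔ η ∉ T)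
    (hQ : ∀ J, Q J → Coh.IsCoh J ∧ FlatMod.IsFlatOver f J ∧
      TFOne.IsTF1 Xs ((Scheme.Modules.pullback (i' ≫ p)).obj J) ∧ Indic ((Scheme.Modules.pullback (i' ≫ p)).obj J) T ∧
      (∃ G π, TFOne.IsQuotOn Xs ((Scheme.Modules.pullback (i' ≫ p)).obj J) T G π) ∧
      ∃ G π, TFOne.IsQuotOn Xs ((Scheme.Modules.pullback (i' ≫ p)).obj J) T' G π)
    (hstep : ∀ J, Q J → ∀ G π, TFOne.IsQuotOn Xs ((Scheme.Modules.pullback (i' ≫ p)).obj J) T G π →
      Q (kernel ((Scheme.Modules.pullbackPushforwardAdjunction (i' ≫ p)).unit.app J ≫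
        (Scheme.Modules.pushforward (i' ≫ p)).map π)))
    {J : X.Modules} (hJ : Q J) :
    ∃ (F : X'.Modules) (a : (Scheme.Modules.pullback p).obj J ⟶ F), Coh.IsCoh F ∧ Epi a ∧
      FlatMod.IsFlatOver f' F ∧ ∃ (G : Xs.Modules) (π : (Scheme.Modules.pullback (i' ≫ p)).obj J ⟶ G)
        (e : (Scheme.Modules.pullback i').obj F ≅ G),
        TFOne.IsQuotOn Xs ((Scheme.Modules.pullback (i' ≫ p)).obj J) T G π ∧
        (Scheme.Modules.pullback i').map a ≫ e.hom = ((Scheme.Modules.pullbackComp i' p).app J).hom ≫ π := by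
  choose Gf πf hGf using fun S : {J // Q J} => (hQ S.1 S.2).2.2.2.2.1
  choose Gf' πf' hGf' using fun S : {J // Q J} => (hQ S.1 S.2).2.2.2.2.2
  let next : {J // Q J} → {J // Q J} := fun S => ⟨_, hstep S.1 S.2 _ _ (hGf S)⟩
  let S := fun n => next^[n] ⟨J, hJ⟩
  have hS : ∀ n, S (n + 1) = next (S n) := fun n => Function.iterate_succ_apply' next n _
  haveI : IsClosedImmersion (i' ≫ p) := (exists_uniformizer f (i' ≫ p) hsq).1
  haveI : IsLocallyNoetherian X := LocallyOfFiniteType.isLocallyNoetherian f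
  haveI : IsLocallyNoetherian Xs := LocallyOfFiniteType.isLocallyNoetherian (i' ≫ p)
  have h0 := hQ J hJ
  obtain ⟨F, a, hF, ha, hFf, e, he⟩ := exists_flatQuotient_bc f f' p i' hsq hsq' hϖ hϖ' ht (fun n => (S n).1) h0.1 h0.2.1
    h0.2.2.1 T T' hT' (fun n => Gf (S n)) (fun n => Gf' (S n)) (fun n => πf (S n)) (fun n => πf' (S n))
    (fun n => hGf (S n)) (fun n => hGf' (S n)) (fun n => congrArg Subtype.val (hS n))
    (fun n => isIso_lift_of_indic (hQ _ (S (n + 1)).2).2.2.1 (hQ _ (S (n + 1)).2).2.2.2.1 hT' (hGf _) (hGf' _))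
  exact ⟨F, a, hF, ha, hFf, _, _, e, hGf (S 0), he⟩

variable [Flat f] (i : Xs ⟶ X)

/-- A class of decomposed modules stable under both modifications is not simple on some generic fibre. -/
theorem exists_generic_not_simple
    (hsq : IsPullback i qs f (Spec.map (CommRingCat.ofHom (IsLocalRing.residue R))))
    (Q : X.Modules → Prop) (Y Y' : Set Xs) (hYY' : ∀ η ∈ genericPoints (Xs : Type u), η ∈ Y' ↔ η ∉ Y)
    (hY : ∃ η, η ∈ Y) (hY' : ∃ η, η ∈ Y')
    (hQ : ∀ J, Q J → Coh.IsCoh J ∧ FlatMod.IsFlatOver f J ∧ TFOne.IsTF1 Xs ((Scheme.Modules.pullback i).obj J) ∧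
      Indic ((Scheme.Modules.pullback i).obj J) Y ∧
      (∃ G π, TFOne.IsQuotOn Xs ((Scheme.Modules.pullback i).obj J) Y G π) ∧
      ∃ G π, TFOne.IsQuotOn Xs ((Scheme.Modules.pullback i).obj J) Y' G π)
    (hstep : ∀ J, Q J → ∀ T, (T = Y ∨ T = Y') → ∀ G π, TFOne.IsQuotOn Xs ((Scheme.Modules.pullback i).obj J) T G π →
      Q (kernel ((Scheme.Modules.pullbackPushforwardAdjunction i).unit.app J ≫
        (Scheme.Modules.pushforward i).map π)))
    {J : X.Modules} (hJ : Q J) :
    ∃ (Ω : Type u) (_ : Field Ω) (_ : IsAlgClosed Ω) (φ : R →+* Ω) (Yg : Scheme.{u}) (g : Yg ⟶ X)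
      (qY : Yg ⟶ Spec (CommRingCat.of Ω)),
      Function.Injective φ ∧ IsPullback g qY f (Spec.map (CommRingCat.ofHom φ)) ∧
      ¬ TFOne.IsSimple Yg Ω qY ((Scheme.Modules.pullback g).obj J) := by
  obtain ⟨C⟩ := exists_completed f i hsq
  obtain ⟨R', c, hcinj, X', f', p, hPB, hflat, hproper, i', q', rfl, hsq', hunif, e₀, he₀⟩ := C
  obtain ⟨ϖ, hϖ⟩ := IsDiscreteValuationRing.exists_irreducible R
  have ht : p.appTop (Coh.toGlobal f ϖ) = Coh.toGlobal f' (c ϖ) := by
    have h1 : Coh.toGlobal (p ≫ f) ϖ = p.appTop (Coh.toGlobal f ϖ) := rfl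
    rw [← h1, hPB.w, Models7.toGlobal_comp_ringHom]
    rfl
  obtain ⟨F, a, hF, ha, hFf, G, π, e, hG, he⟩ := exists_quotient_of_invariant f f' p i' hsq hsq' hϖ (hunif ϖ hϖ) ht
    Q Y Y' hYY' hQ (fun J hJ G π h => hstep J hJ Y (Or.inl rfl) G π h) hJ
  obtain ⟨F', a', hF', ha', hFf', G', π', e', hG', he'⟩ := exists_quotient_of_invariant f f' p i' hsq hsq' hϖ
    (hunif ϖ hϖ) ht Q Y' Y (fun η hη => by rw [hYY' η hη, not_not])
    (fun J hJ => by
      obtain ⟨h1, h2, h3, h4, h5, h6⟩ := hQ J hJ
      exact ⟨h1, h2, h3, h4.compl.congr fun η hη => (hYY' η hη).symm, h6, h5⟩)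
    (fun J hJ G π h => hstep J hJ Y' (Or.inr rfl) G π h) hJ
  obtain ⟨hJc, -, hJs, hJY, -, -⟩ := hQ J hJ
  haveI : IsLocallyNoetherian X := LocallyOfFiniteType.isLocallyNoetherian f
  haveI : IsLocallyNoetherian X' := LocallyOfFiniteType.isLocallyNoetherian f'
  haveI : CompactSpace X' := QuasiCompact.compactSpace_of_compactSpace f'
  obtain ⟨hi', ϖ₁, hϖ₁, hker'⟩ := exists_uniformizer f' i' hsq'
  haveI := hi'
  haveI : IsClosedImmersion (i' ≫ p) := (exists_uniformizer f (i' ≫ p) hsq).1
  haveI : IsLocallyNoetherian Xs := LocallyOfFiniteType.isLocallyNoetherian i'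
  have hreg' : ∀ {N : X'.Modules}, FlatMod.IsFlatOver f' N → ∀ (x : X') (v : (DerSch.stalkFunctor X' x).obj N),
      X'.presheaf.germ ⊤ x trivial (Coh.toGlobal f' ϖ₁) • v = 0 → v = 0 := fun hN x v hv =>
    regular_of_flat f' hN hϖ₁.ne_zero x v 0 (by rw [smul_zero, hv])
  haveI := isIso_lift_of_indic hJs hJY hYY' hG hG'
  let α := (Scheme.Modules.pullbackComp i' p).app J
  haveI : IsIso (biprod.lift ((Scheme.Modules.pullback i').map a) ((Scheme.Modules.pullback i').map a')) := by
    rw [show biprod.lift ((Scheme.Modules.pullback i').map a) ((Scheme.Modules.pullback i').map a') =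
      α.hom ≫ biprod.lift π π' ≫ (biprod.mapIso e.symm e'.symm).hom by
        apply biprod.hom_ext <;> simp [← cancel_mono e.hom, ← cancel_mono e'.hom, he, he', α]]
    infer_instance
  haveI : IsIso (biprod.lift a a') := isIso_lift_of_special i' hker' (fun x hx => mem_range_of_closed f' i' hsq' hx)
    (CycLib28.InterSheaf.isCoh_pullback p hJc) hF hF' a a' (hreg' hFf) (hreg' hFf')
  let K' := FractionRing R'
  let Ω := AlgebraicClosure K'
  let ψ : R' →+* Ω := (algebraMap K' Ω).comp (algebraMap R' K')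
  have hψ : Function.Injective ψ := (algebraMap K' Ω).injective.comp (IsFractionRing.injective R' K')
  haveI : Flat (Spec.map (CommRingCat.ofHom ψ)) := flat_specMap_field ψ hψ
  let σΩ := Spec.map (CommRingCat.ofHom ψ)
  let Yg := pullback f' σΩ
  let g' : Yg ⟶ X' := pullback.fst f' σΩ
  haveI : Flat g' := MorphismProperty.pullback_fst (P := @Flat) _ _ inferInstance
  let qY : Yg ⟶ Spec (CommRingCat.of Ω) := pullback.snd f' σΩ
  letI : Yg.Over (Spec (CommRingCat.of Ω)) := ⟨qY⟩
  have hYg : IsPullback (g' ≫ p) qY f (Spec.map (CommRingCat.ofHom (ψ.comp c))) := by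
    rw [CommRingCat.ofHom_comp, Spec.map_comp]
    exact (IsPullback.of_hasPullback f' σΩ).paste_horiz hPB
  refine ⟨Ω, inferInstance, inferInstance, ψ.comp c, Yg, g' ≫ p, qY, hψ.comp hcinj, hYg, fun hs => ?_⟩
  have hs' : TFOne.IsSimple Yg Ω qY ((Scheme.Modules.pullback g').obj ((Scheme.Modules.pullback p).obj J)) :=
    isSimple_congr Ω ((Scheme.Modules.pullbackComp g' p).app J).symm hs
  have hne : ∀ {N : X'.Modules} (G : Xs.Modules) (_ : (Scheme.Modules.pullback i').obj N ≅ G) (T : Set Xs),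
      Coh.IsCoh N → FlatMod.IsFlatOver f' N → CohB1.support G = T → (∃ η, η ∈ T) →
      ¬ IsZero ((Scheme.Modules.pullback g').obj N) := by
    intro N G e T hN hNf hsupp hT hz
    obtain ⟨η, hη⟩ := hT
    have h0 : ∀ (x : X') (v : (DerSch.stalkFunctor X' x).obj N), v = 0 := by
      refine eq_zero_of_generic_fibre i' hker' hN.1 (hreg' hNf) fun z hz' v => ?_
      obtain ⟨y, hy⟩ : z ∈ Set.range g' := by
        rw [Scheme.Pullback.range_fst]
        refine ⟨IsLocalRing.closedPoint Ω, ?_⟩
        by_contra hne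
        refine hz' ((mem_range_iff f' i' hsq' z).2 ?_)
        let b : PrimeSpectrum R' := f' z
        have hb : b.asIdeal ≠ ⊥ := fun h0 => hne (PrimeSpectrum.ext (by
          show Ideal.comap ψ (IsLocalRing.maximalIdeal Ω) = b.asIdeal
          rw [h0, IsLocalRing.maximalIdeal_eq_bot, Ideal.comap_bot_of_injective ψ hψ]))
        exact PrimeSpectrum.ext (IsLocalRing.eq_maximalIdeal (b.isPrime.isMaximal hb))
      subst hy
      apply pbs_injective_of_flat g' N y
      haveI := (DerSch.stalkFunctor Yg y).map_isZero hz |> ModuleCat.isZero_iff_subsingleton.1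
      exact Subsingleton.elim _ _
    rw [← hsupp] at hη
    exact hη (subsingleton_of_forall_eq 0 fun w => stalk_injective e.inv η
      ((pullback_stalk_zero i' N η (h0 _) _).trans (map_zero _).symm))
  let θ := (Scheme.Modules.pullback g').map a
  let θ' := (Scheme.Modules.pullback g').map a'
  let e1 := (Scheme.Modules.pullback g').map (a ≫ biprod.inl ≫ inv (biprod.lift a a'))
  have hi1 : inv (biprod.lift a a') ≫ a = biprod.fst := (IsIso.inv_comp_eq _).2 (biprod.lift_fst _ _).symm
  have hi2 : inv (biprod.lift a a') ≫ a' = biprod.snd := (IsIso.inv_comp_eq _).2 (biprod.lift_snd _ _).symm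
  have k1 : e1 ≫ θ = θ := by
    simp only [e1, θ, ← Functor.map_comp, Category.assoc, hi1, biprod.inl_fst, Category.comp_id]
  have k2 : e1 ≫ θ' = 0 := by
    simp only [e1, θ', ← Functor.map_comp, Category.assoc, hi2, biprod.inl_snd, comp_zero, Functor.map_zero]
  obtain ⟨k, hk⟩ := hs'.2 e1
  rw [hk] at k1 k2
  rw [scalar_comp] at k1 k2
  haveI := ha; haveI := ha'
  haveI : Epi θ := inferInstance
  haveI : Epi θ' := inferInstance
  by_cases hk0 : k = 0
  · refine hne G e Y hF hFf hG.2.2.2 hY ((IsZero.iff_id_eq_zero _).2 ((cancel_epi θ).1 ?_))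
    rw [Category.comp_id, comp_zero, ← k1]
    refine VarietyLib.eq_zero_of_stalks _ fun x v => ?_
    rw [map_comp_apply, map_scalar, hk0, map_zero, zero_smul]
  · refine hne G' e' Y' hF' hFf' hG'.2.2.2 hY' ((IsZero.iff_id_eq_zero _).2 ((cancel_epi θ').1 ?_))
    rw [Category.comp_id, comp_zero]
    refine VarietyLib.eq_zero_of_stalks _ fun x v => ?_
    have h := congrArg (fun m => (DerSch.stalkFunctor Yg x).map m v) k2
    simp only [map_comp_apply, map_scalar, map_zero_apply] at h
    have hu : IsUnit (cst Ω x k) := (IsUnit.mk0 k hk0).map (cst Ω x)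
    exact hu.smul_eq_zero.1 h

end Groth.Agent.TF7
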