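import Groth.Agent.TF7.Decomposable
import Groth.Agent.TF7.Extension
import Groth.Agent.TF7.ModifTF
import Groth.Agent.TF7.Decompose
import Groth.Agent.TF7.Completion.Tower

/-!
# Indicator endomorphisms and indecomposable pieces of rank one modules
-/

set_option autoImplicit false
set_option linter.style.haveILetI false
set_option linter.unusedSectionVars false
set_option backward.isDefEq.respectTransparency.types false
set_option backward.isDefEq.respectTransparency false

universe u

open CategoryTheory CategoryTheory.Limits AlgebraicGeometry Opposite TopologicalSpace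
open Groth.Agent.OmegaLib

noncomputable section

namespace Groth.Agent.TF7

variable {X : Scheme.{u}}

local notation "St" => DerSch.stalkFunctor X

/-- An endomorphism which is the identity at the generic points in `S` and zero at the others. -/
def Indic (M : X.Modules) (S : Set X) : Prop :=
  ∃ e : M ⟶ M, ∀ η ∈ genericPoints X, ∀ m : (St η).obj M,
    (η ∈ S → (St η).map e m = m) ∧ (η ∉ S → (St η).map e m = 0)

theorem id_apply (M : X.Modules) {x : X} (m : (St x).obj M) : (St x).map (𝟙 M) m = m := by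
  rw [CategoryTheory.Functor.map_id]; rfl

theorem sub_apply {M N : X.Modules} (f g : M ⟶ N) {x : X} (m : (St x).obj M) :
    (St x).map (f - g) m = (St x).map f m - (St x).map g m := by
  rw [Functor.map_sub]; rfl

theorem Indic.congr {M : X.Modules} {S T : Set X} (h : Indic M S) (hST : ∀ η ∈ genericPoints X, η ∈ S ↔ η ∈ T) :
    Indic M T :=
  h.imp fun _ he η hη m => ⟨fun hT => (he η hη m).1 ((hST η hη).2 hT), fun hT => (he η hη m).2 fun hS => hT ((hST η hη).1 hS)⟩

theorem indic_univ (M : X.Modules) : Indic M Set.univ :=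
  ⟨𝟙 M, fun _ _ m => ⟨fun _ => id_apply M m, fun h => absurd trivial h⟩⟩

theorem Indic.compl {M : X.Modules} {S : Set X} (h : Indic M S) : Indic M Sᶜ := by
  obtain ⟨e, he⟩ := h
  refine ⟨𝟙 M - e, fun η hη m => ⟨fun hS => ?_, fun hS => ?_⟩⟩ <;> rw [sub_apply, id_apply]
  · rw [(he η hη m).2 hS, sub_zero]
  · rw [(he η hη m).1 (not_not.1 hS), sub_self]

theorem Indic.inter {M : X.Modules} {S T : Set X} (hS : Indic M S) (hT : Indic M T) : Indic M (S ∩ T) := by
  obtain ⟨e, he⟩ := hS
  obtain ⟨e', he'⟩ := hT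
  refine ⟨e ≫ e', fun η hη m => ⟨fun h => ?_, fun h => ?_⟩⟩ <;> rw [map_comp_apply]
  · rw [(he η hη m).1 h.1, (he' η hη m).1 h.2]
  · by_cases h1 : η ∈ S
    · rw [(he η hη m).1 h1, (he' η hη m).2 fun h2 => h ⟨h1, h2⟩]
    · rw [(he η hη m).2 h1, map_zero]

/-- The components of the smallest indicated set through `w`. -/
def piece (M : X.Modules) (w : X) : Set X :=
  ⋃₀ {C | C ∈ irreducibleComponents (X : Type u) ∧
    ∀ η ∈ genericPoints X, closure ({η} : Set X) = C → ∀ S, Indic M S → w ∈ S → η ∈ S}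

/-- The union of the components outside `T`. -/
def away (T : Set X) : Set X := ⋃₀ {C | C ∈ irreducibleComponents (X : Type u) ∧ ¬ C ⊆ T}

theorem mem_away [IsReduced X] {T : Set X} (hT : IsClosed T) {η : X} (hη : η ∈ genericPoints X) :
    η ∈ away T ↔ η ∉ T := by
  rw [away, mem_sUnion_components hη, closure_subset_iff_mem hT]

theorem Indic.away [IsReduced X] {M : X.Modules} {T : Set X} (h : Indic M T) (hT : IsClosed T) :
    Indic M (away T) :=
  h.compl.congr fun _ hη => (mem_away hT hη).symm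

theorem mem_piece [IsReduced X] {M : X.Modules} {w η : X} (hη : η ∈ genericPoints X) :
    η ∈ piece M w ↔ ∀ S, Indic M S → w ∈ S → η ∈ S := by
  rw [piece, mem_sUnion_components hη]
  exact ⟨fun h => h η hη rfl, fun h η' _ he => (closure_eq_iff hη).1 he ▸ h⟩

theorem self_mem_piece [IsReduced X] {M : X.Modules} {w : X} (hw : w ∈ genericPoints X) : w ∈ piece M w :=
  (mem_piece hw).2 fun _ _ h => h

theorem indic_piece [IsReduced X] [NoetherianSpace X] (M : X.Modules) {w : X} :
    Indic M (piece M w) := by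
  classical
  suffices h : ∀ s : Finset X, ∃ S, Indic M S ∧ w ∈ S ∧ ∀ η ∈ s, η ∈ genericPoints X → η ∉ piece M w → η ∉ S by
    obtain ⟨S, hS, hwS, hex⟩ := h (genericPoints_finite (X := X)).toFinset
    exact hS.congr fun η hη => ⟨fun hηS => by_contra fun hn => hex η ((Set.Finite.mem_toFinset _).2 hη) hη hn hηS,
      fun h => (mem_piece hη).1 h S hS hwS⟩
  intro s
  induction s using Finset.induction with
  | empty => exact ⟨Set.univ, indic_univ M, trivial, fun η h => absurd h (Finset.notMem_empty η)⟩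
  | insert a s ha ih =>
    obtain ⟨S, hS, hwS, hex⟩ := ih
    by_cases h : a ∈ genericPoints X ∧ a ∉ piece M w
    · obtain ⟨T, hT, hwT, haT⟩ : ∃ T, Indic M T ∧ w ∈ T ∧ a ∉ T := by
        by_contra! hall
        exact h.2 ((mem_piece h.1).2 hall)
      refine ⟨S ∩ T, hS.inter hT, ⟨hwS, hwT⟩, fun η hη hg hn hηS => ?_⟩
      rcases Finset.mem_insert.1 hη with rfl | hη'
      · exact haT hηS.2
      · exact hex η hη' hg hn hηS.1
    · refine ⟨S, hS, hwS, fun η hη hg hn => ?_⟩
      rcases Finset.mem_insert.1 hη with rfl | hη'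
      · exact absurd ⟨hg, hn⟩ h
      · exact hex η hη' hg hn

section Quot

variable [IsReduced X] [IsLocallyNoetherian X] {M G1 G2 : X.Modules} {T T' : Set X} {π1 : M ⟶ G1} {π2 : M ⟶ G2}

/-- The quotients at an indicated set and its complement split the module. -/
theorem isIso_lift_of_indic (hM : TFOne.IsTF1 X M) (he : Indic M T) (hT' : ∀ η ∈ genericPoints X, η ∈ T' ↔ η ∉ T)
    (h1 : TFOne.IsQuotOn X M T G1 π1) (h2 : TFOne.IsQuotOn X M T' G2 π2) : IsIso (biprod.lift π1 π2) := by
  obtain ⟨e, he⟩ := he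
  haveI := h1.1; haveI := h2.1
  have hL := leOne_of_isRkOne hM.2.2
  haveI : Mono (biprod.lift π1 π2) := by
    refine mono_of_stalks_injective _ fun x => (injective_iff_map_eq_zero _).2 fun n hn => ?_
    have ha : (St x).map π1 n = 0 := by
      rw [← biprod.lift_fst π1 π2, map_comp_apply, hn, map_zero]
    have hb : (St x).map π2 n = 0 := by
      rw [← biprod.lift_snd π1 π2, map_comp_apply, hn, map_zero]
    refine eq_zero_of_generic hM.1.1 hM.2.1 n fun η hη hs => ?_
    by_cases hηT : η ∈ T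
    · exact (map_eq_zero_iff hL h1 n).1 ha η hη hηT hs
    · exact (map_eq_zero_iff hL h2 n).1 hb η hη ((hT' η hη).2 hηT) hs
  have k1 : ∀ (x : X) (m : (St x).obj M), (St x).map π1 ((St x).map e m) = (St x).map π1 m := fun x m => by
    refine sub_eq_zero.1 ((map_sub _ _ _).symm.trans ((map_eq_zero_iff hL h1 _).2 fun η hη hηT hs => ?_))
    rw [show (St x).map e m - m = (St x).map (e - 𝟙 M) m by rw [sub_apply, id_apply], spec_map, sub_apply, id_apply,
      (he η hη _).1 hηT, sub_self]
  have k2 : ∀ (x : X) (m : (St x).obj M), (St x).map π2 ((St x).map e m) = 0 := fun x m =>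
    (map_eq_zero_iff hL h2 _).2 fun η hη hηT hs => by
      rw [spec_map, (he η hη _).2 ((hT' η hη).1 hηT)]
  haveI : Epi (biprod.lift π1 π2) := epi_of_stalks_surjective _ fun x w => by
    obtain ⟨a, ha⟩ := stalk_surjective π1 x ((St x).map biprod.fst w)
    obtain ⟨b, hb⟩ := stalk_surjective π2 x ((St x).map biprod.snd w)
    refine ⟨(St x).map e a + (b - (St x).map e b), sub_eq_zero.1 (biprod_ext _ ?_ ?_)⟩
    · rw [map_sub, ← map_comp_apply, biprod.lift_fst, map_add, map_sub, k1, k1, sub_self, add_zero, ha, sub_self]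
    · rw [map_sub, ← map_comp_apply, biprod.lift_snd, map_add, map_sub, k2, k2, sub_zero, zero_add, hb, sub_self]
  exact isIso_of_mono_of_epi _

end Quot

/-- Factor a morphism through a monomorphism stalkwise. -/
theorem exists_lift_mono {A B C : X.Modules} (μ : A ⟶ B) [Mono μ] (f : C ⟶ B)
    (h : ∀ (x : X) (c : (St x).obj C), ∃ a, (St x).map μ a = (St x).map f c) : ∃ g : C ⟶ A, g ≫ μ = f :=
  ⟨Abelian.monoLift μ f (VarietyLib.eq_zero_of_stalks _ fun x c => by
      obtain ⟨a, ha⟩ := h x c
      rw [map_comp_apply, ← ha, ← map_comp_apply, cokernel.condition, map_zero_apply]),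
    Abelian.monoLift_comp _ _ _⟩

section Modification

variable [IsReduced X] [IsLocallyNoetherian X] {M N G : X.Modules} {π : M ⟶ G} {T S : Set X}

/-- An indicator on a modification along an indicated set restricts. -/
theorem Seq.indic_meet (Sq : Seq M N G π) (hM : TFOne.IsTF1 X M)
    (hμ : ∀ (y : X) (g : (St y).obj G), (St y).map Sq.μ g = 0 → g = 0)
    (hG : TFOne.IsQuotOn X M T G π) (hT : Indic M T) (hS : Indic N S) : Indic M (S ∩ T) := by
  obtain ⟨e0, he0⟩ := hT
  obtain ⟨e, he⟩ := hS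
  haveI := hG.1
  have hL := leOne_of_isRkOne hM.2.2
  haveI : Mono Sq.μ := mono_of_stalks_injective _ fun y => (injective_iff_map_eq_zero _).2 fun g hg => hμ y g hg
  obtain ⟨eY, heY⟩ := exists_lift_mono Sq.μ (Sq.μ ≫ e) fun x g => Sq.exN x _ (by
    refine eq_zero_of_generic hM.1.1 hM.2.1 _ fun η hη hs => ?_
    rw [spec_map, spec_map]
    by_cases hηT : η ∈ T
    · exact Sq.ν_eq_zero hL hG hη hηT _
    · rw [stalk_zero_of_notMem hG hηT (spec G hs g), map_zero, map_zero])
  obtain ⟨s, hs'⟩ := exists_desc π e0 fun x m hm => eq_zero_of_generic hM.1.1 hM.2.1 _ fun η hη hs => by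
    rw [spec_map]
    by_cases hηT : η ∈ T
    · rw [(map_eq_zero_iff hL hG m).1 hm η hη hηT hs, map_zero]
    · exact (he0 η hη _).2 hηT
  refine ⟨π ≫ eY ≫ s, fun η hη m => ?_⟩
  rw [map_comp_apply, map_comp_apply]
  by_cases hηT : η ∈ T
  · have key : (St η).map Sq.μ ((St η).map eY ((St η).map π m)) =
        (St η).map e ((St η).map Sq.μ ((St η).map π m)) := by
      rw [← map_comp_apply eY, heY, map_comp_apply]
    have hinj := stalk_injective Sq.μ η
    refine ⟨fun h => ?_, fun h => ?_⟩
    · rw [(he η hη _).1 h.1] at key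
      rw [hinj key, ← map_comp_apply, hs']
      exact (he0 η hη m).1 hηT
    · rw [(he η hη _).2 fun h' => h ⟨h', hηT⟩] at key
      rw [hinj (key.trans (map_zero _).symm), map_zero]
  · refine ⟨fun h => absurd h.2 hηT, fun _ => ?_⟩
    rw [stalk_zero_of_notMem hG hηT ((St η).map π m), map_zero, map_zero]

/-- An indicator on a modification along the complement of an indicated set restricts. -/
theorem Seq.indic_meet' (Sq : Seq M N G π) (hM : TFOne.IsTF1 X M) {T' : Set X}
    (hG : TFOne.IsQuotOn X M T' G π) (hT' : ∀ η ∈ genericPoints X, η ∈ T' ↔ η ∉ T)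
    (hT : Indic M T) (hS : Indic N S) : Indic M (S ∩ T) := by
  obtain ⟨e0, he0⟩ := hT
  obtain ⟨e, he⟩ := hS
  haveI := hG.1
  have hL := leOne_of_isRkOne hM.2.2
  have h0 : e0 ≫ π = 0 := VarietyLib.eq_zero_of_stalks _ fun x m => by
    rw [map_comp_apply]
    refine (map_eq_zero_iff hL hG _).2 fun η hη hηT hs => ?_
    rw [spec_map, (he0 η hη _).2 ((hT' η hη).1 hηT)]
  let q : N ⟶ kernel π := kernel.lift π Sq.ν Sq.νπ
  have hq : q ≫ kernel.ι π = Sq.ν := kernel.lift_ι _ _ _
  haveI : Epi q := epi_of_stalks_surjective _ fun y v => by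
    obtain ⟨n, hn⟩ := Sq.exM y ((St y).map (kernel.ι π) v)
      (by rw [← map_comp_apply, kernel.condition, map_zero_apply])
    exact ⟨n, stalk_injective (kernel.ι π) y (by rw [← map_comp_apply, hq, hn])⟩
  obtain ⟨d, hd⟩ := exists_desc q (e ≫ Sq.ν) fun x n hn => by
    have hn' : (St x).map Sq.ν n = 0 := by rw [← hq, map_comp_apply, hn, map_zero]
    obtain ⟨g, rfl⟩ := Sq.exN x n hn'
    refine eq_zero_of_generic hM.1.1 hM.2.1 _ fun η hη hs => ?_
    rw [spec_map, map_comp_apply, spec_map]
    by_cases hηT : η ∈ T'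
    · exact Sq.ν_eq_zero hL hG hη hηT _
    · rw [stalk_zero_of_notMem hG hηT (spec G hs g), map_zero, map_zero, map_zero]
  let l : M ⟶ kernel π := kernel.lift π e0 h0
  refine ⟨l ≫ d, fun η hη m => ?_⟩
  by_cases hηT : η ∈ T
  · obtain ⟨n, hn⟩ := Sq.exM η m (stalk_zero_of_notMem hG (fun h => (hT' η hη).1 h hηT) _)
    have key : (St η).map l m = (St η).map q n := stalk_injective (kernel.ι π) η (by
      rw [← map_comp_apply, ← map_comp_apply, hq, kernel.lift_ι, (he0 η hη m).1 hηT, hn])
    rw [map_comp_apply, key, ← map_comp_apply q, hd, map_comp_apply]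
    exact ⟨fun h => by rw [(he η hη n).1 h.1, hn],
      fun h => by rw [(he η hη n).2 fun h' => h ⟨h', hηT⟩, map_zero]⟩
  · refine ⟨fun h => absurd h.2 hηT, fun _ => ?_⟩
    have key : (St η).map l m = 0 := stalk_injective (kernel.ι π) η (by
      rw [← map_comp_apply, kernel.lift_ι, (he0 η hη m).2 hηT, map_zero])
    rw [map_comp_apply, key, map_zero]

end Modification

section Simple

variable (k : Type u) [Field k] [X.Over (Spec (CommRingCat.of k))] [IsProper (X ↘ Spec (CommRingCat.of k))]
  [IsReduced X]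

/-- Over an algebraically closed field endomorphisms act by constants at generic points. -/
theorem exists_scalars_algClosed [IsAlgClosed k] {M : X.Modules} (hM : TFOne.IsTF1 X M) (f : M ⟶ M) :
    ∃ c : X → k, ∀ η ∈ genericPoints X, ∀ m : (St η).obj M, (St η).map f m = cst k η (c η) • m := by
  suffices h : ∀ η : X, ∃ c : k, η ∈ genericPoints X → ∀ m : (St η).obj M, (St η).map f m = cst k η c • m by
    choose c hc using h
    exact ⟨c, hc⟩
  intro η
  by_cases hη : η ∈ genericPoints X
  · obtain ⟨e⟩ := hM.2.2 η hη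
    obtain ⟨lam, hlam, hf⟩ := exists_algebraic_scalar k hM.1 e f
    letI := (isField_stalk hη).toField
    letI := (cst k η).toAlgebra
    have hi : IsIntegral k lam := IsAlgebraic.isIntegral hlam
    obtain ⟨c, rfl⟩ : lam ∈ (algebraMap k (X.presheaf.stalk η)).range :=
      minpoly.mem_range_of_degree_eq_one k lam
        (IsAlgClosed.degree_eq_one_of_irreducible k (minpoly.irreducible hi))
    exact ⟨c, fun _ => hf⟩
  · exact ⟨0, fun h => absurd h hη⟩

/-- Simple modules only have trivial indicators. -/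
theorem trivial_of_isSimple {M : X.Modules} (hM : TFOne.IsTF1 X M)
    (hs : TFOne.IsSimple X k (X ↘ Spec (CommRingCat.of k)) M) {S : Set X} (h : Indic M S) {η η' : X}
    (hη : η ∈ genericPoints X) (hη' : η' ∈ genericPoints X) (hS : η ∈ S) : η' ∈ S := by
  by_contra hS'
  obtain ⟨e, he⟩ := h
  obtain ⟨c, hc⟩ := hs.2 e
  obtain ⟨l⟩ := hM.2.2 η hη
  obtain ⟨l'⟩ := hM.2.2 η' hη'
  haveI : Nontrivial ((St η).obj M) := show Nontrivial (M.presheaf.stalk η) from l.toEquiv.nontrivial
  haveI : Nontrivial ((St η').obj M) := show Nontrivial (M.presheaf.stalk η') from l'.toEquiv.nontrivial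
  obtain ⟨m, hm⟩ := exists_ne (0 : (St η).obj M)
  obtain ⟨m', hm'⟩ := exists_ne (0 : (St η').obj M)
  have h1 : c = 1 := cst_unique k hη hm (by rw [← map_scalar, ← hc, (he η hη _).1 hS, map_one, one_smul])
  have h2 : c = 0 := cst_unique k hη' hm' (by rw [← map_scalar, ← hc, (he η' hη' _).2 hS', map_zero, zero_smul])
  exact one_ne_zero (h1.symm.trans h2)

/-- No nontrivial indicator through a given component: simple. -/
theorem isSimple_of_indic {M : X.Modules} (hM : TFOne.IsTF1 X M) {w : X} (hw : w ∈ genericPoints X)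
    (hsc : ∀ f : M ⟶ M, ∃ c : X → k, ∀ η ∈ genericPoints X, ∀ m : (St η).obj M,
      (St η).map f m = cst k η (c η) • m)
    (h : ∀ S, Indic M S → w ∈ S → ∀ η ∈ genericPoints X, η ∈ S) :
    TFOne.IsSimple X k (X ↘ Spec (CommRingCat.of k)) M := by
  classical
  haveI := EulerLib.isNoetherian_of_proper (X := X) k
  refine ⟨fun hz => ?_, fun f => ?_⟩
  · obtain ⟨e⟩ := hM.2.2 w hw
    haveI : Nontrivial ((St w).obj M) := show Nontrivial (M.presheaf.stalk w) from e.toEquiv.nontrivial
    haveI := (St w).map_isZero hz |> ModuleCat.isZero_iff_subsingleton.1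
    exact false_of_nontrivial_of_subsingleton ((St w).obj M)
  obtain ⟨c, hc⟩ := hsc f
  let s := ((genericPoints_finite (X := X)).toFinset.image c).erase (c w)
  obtain ⟨e, he⟩ := exists_indicator k f c hc (c w) s (Finset.notMem_erase _ _)
  have hS : Indic M {η | c η = c w} := ⟨e, fun η hη m => ⟨(he η hη m).1, fun hne => (he η hη m).2
    (Finset.mem_erase.2 ⟨hne, Finset.mem_image.2 ⟨η, (Set.Finite.mem_toFinset _).2 hη, rfl⟩⟩)⟩⟩
  refine ⟨c w, sub_eq_zero.1 (hom_eq_zero_of_generic k hM.1 hM.2.1 _ fun η hη m => ?_)⟩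
  rw [map_sub_scalar, hc η hη, show c η = c w from h _ hS rfl η hη, sub_self]

end Simple

theorem isSimple_congr (k : Type u) [Field k] {q : X ⟶ Spec (CommRingCat.of k)} {M M' : X.Modules}
    (e : M ≅ M') (h : TFOne.IsSimple X k q M) : TFOne.IsSimple X k q M' := by
  letI : X.Over (Spec (CommRingCat.of k)) := ⟨q⟩
  refine ⟨fun hz => h.1 (hz.of_iso e), fun φ => ?_⟩
  obtain ⟨c, hc⟩ := h.2 (e.hom ≫ φ ≫ e.inv)
  refine ⟨c, ?_⟩
  rw [← cancel_epi e.hom, ← scalar_comp k e.hom c,
    show Formal.smulMod k M c = e.hom ≫ φ ≫ e.inv from hc.symm]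
  simp

end Groth.Agent.TF7
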